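import Groth.Agent.J2CompleteLib.Main
import Groth.Agent.NagataCompleteLib.Unramified

/-!
# Complete Noetherian local rings are J-2
-/

set_option autoImplicit false
set_option backward.isDefEq.respectTransparency false
set_option maxHeartbeats 1000000
universe u

open IsLocalRing

namespace Groth.Agent.J2CompleteLib

local instance {σ k : Type*} [CommRing k] [IsDomain k] : IsDomain (MvPowerSeries σ k) :=
  NoZeroDivisors.to_isDomain _

/-- Finite domains over a complete Noetherian local domain are generically regular. -/
theorem exists_open_finite_complete (R : Type u) [CommRing R] [IsDomain R] [IsLocalRing R] [IsNoetherianRing R]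
    [IsAdicComplete (maximalIdeal R) R] (B : Type u) [CommRing B] [IsDomain B] [Algebra R B] [Module.Finite R B]
    (hB : Function.Injective (algebraMap R B)) :
    ∃ U : Set (PrimeSpectrum B), IsOpen U ∧ U.Nonempty ∧ U ⊆ EGA4.regLocus B := by
  classical
  by_cases hf : IsField R
  · haveI : Algebra.IsIntegral R B := Algebra.IsIntegral.of_finite R B
    letI := (isField_of_isIntegral_of_isField' (R := R) (S := B) hf).toField
    exact ⟨Set.univ, isOpen_univ, Set.univ_nonempty, (RegLocLib.regLocus_eq_univ_of_isRegularRing B).ge⟩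
  obtain ⟨d, hd⟩ := RegLocal.exists_nat_ringKrullDim (R := R)
  have hd1 : 1 ≤ d := by
    by_contra h
    have h0 : ringKrullDim R = 0 := by rw [hd]; norm_num; omega
    haveI : Ring.KrullDimLE 0 R := Ring.krullDimLE_iff.2 h0.le
    exact hf Ring.KrullDimLE.isField_of_isDomain
  have hsop : ∀ {f : R}, f ∈ maximalIdeal R → f ≠ 0 →
      ∃ y : Fin (d - 1) → R, (∀ i, y i ∈ maximalIdeal R) ∧
        maximalIdeal R ≤ (Ideal.span (insert f (Set.range y))).radical := fun {f} hfm hf0 => by
    obtain ⟨y, -, hy, hrad⟩ := SopLib.exists_sop_extending hd hfm (fun p hp hfp => hf0 (by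
      rw [show p = ⊥ by simpa [IsDomain.minimalPrimes_eq_singleton_bot] using hp] at hfp
      simpa using hfp)) 0
    exact ⟨y, hy, hrad⟩
  -- equicharacteristic case
  have equi : ∀ (k₀ : Type u) [Field k₀] [Algebra k₀ R],
      ∃ U : Set (PrimeSpectrum B), IsOpen U ∧ U.Nonempty ∧ U ⊆ EGA4.regLocus B := by
    intro k₀ _ _
    obtain ⟨s, hs⟩ := PSStructLib.exists_coefficientField R k₀
    obtain ⟨f, hfm, hf0⟩ : ∃ f ∈ maximalIdeal R, f ≠ 0 :=
      Submodule.exists_mem_ne_zero_of_ne_bot fun h => hf (isField_iff_maximalIdeal_eq.2 h)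
    obtain ⟨y, hy, hrad⟩ := hsop hfm hf0
    haveI : IsLocalHom s := ⟨fun c hc => isUnit_iff_ne_zero.2 fun h0 => by
      rw [h0, map_zero] at hc; exact not_isUnit_zero hc⟩
    haveI : IsAdicComplete (maximalIdeal (ResidueField R)) (ResidueField R) := by
      rw [isField_iff_maximalIdeal_eq.1 (Field.toIsField _)]; infer_instance
    obtain ⟨g, hg, hginj, hdom⟩ := NagataCompleteLib.exists_normalization (a := 0) (m := d - 1 + 1) (Λ := ResidueField R) s
      (fun c => ⟨c, hs c⟩) Fin.elim0 (by
        rw [isField_iff_maximalIdeal_eq.1 (Field.toIsField _), Set.range_eq_empty Fin.elim0, Ideal.span_empty])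
      (Fin.snoc y f) (fun i => by
        refine Fin.lastCases ?_ (fun j => ?_) i
        · simpa using hfm
        · simpa using hy j)
      (hrad.trans (Ideal.radical_mono (le_sup_of_le_right (Ideal.span_mono (by
        rintro _ (rfl | ⟨i, rfl⟩)
        · exact ⟨Fin.last _, by simp⟩
        · exact ⟨i.castSucc, by simp⟩)))))
      hd (by omega)
    let R0 := MvPowerSeries (Fin (d - 1 + 1)) (ResidueField R)
    letI : Algebra R0 R := g.toAlgebra
    haveI : Module.Finite R0 R := hg
    letI : Algebra R0 B := ((algebraMap R B).comp g).toAlgebra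
    haveI : IsScalarTower R0 R B := IsScalarTower.of_algebraMap_eq fun _ => rfl
    haveI : Module.Finite R0 B := Module.Finite.trans R B
    have hinj : Function.Injective (algebraMap R0 B) := hB.comp hginj
    obtain ⟨p, hp⟩ := CharP.exists (ResidueField R)
    rcases CharP.char_is_prime_or_zero (ResidueField R) p with hpr | rfl
    · haveI := Fact.mk hpr
      exact exists_open_finite_powerSeries (ResidueField R) p _ B hinj
    · haveI : CharZero (ResidueField R) := CharP.charP_to_charZero _
      haveI : IsDomain R0 := hdom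
      haveI : CharZero R0 := charZero_of_injective_ringHom (f := MvPowerSeries.C (σ := Fin (d - 1 + 1)) (R := ResidueField R))
        fun a b h => MvPowerSeries.C_injective h
      haveI := WildQuotLib.isRegularLocalRing (ResidueField R) (d - 1 + 1)
      haveI := RegLocLib.isRegularRing_of_isRegularLocalRing R0
      exact exists_open_finite_charZero R0 B hinj
  obtain ⟨p, hp⟩ := CharP.exists R
  rcases CharP.char_is_prime_or_zero R p with hpr | rfl
  · haveI := Fact.mk hpr
    exact @equi (ULift.{u} (ZMod p)) _ (((ZMod.castHom (dvd_refl p) R).comp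
      ULift.ringEquiv.toRingHom).toAlgebra)
  haveI : CharZero R := CharP.charP_to_charZero R
  obtain ⟨q, hq⟩ := CharP.exists (ResidueField R)
  rcases CharP.char_is_prime_or_zero (ResidueField R) q with hqp | rfl
  swap
  · haveI : CharZero (ResidueField R) := CharP.charP_to_charZero _
    let j : ℚ →+* R := IsLocalization.lift (M := nonZeroDivisors ℤ) (g := Int.castRingHom R) fun z => by
      by_contra hu
      have : (Int.castRingHom R z.1) ∈ maximalIdeal R := hu
      rw [← residue_eq_zero_iff, eq_intCast, map_intCast, Int.cast_eq_zero] at this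
      exact nonZeroDivisors.coe_ne_zero z this
    exact @equi (ULift.{u} ℚ) _ ((j.comp ULift.ringEquiv.toRingHom).toAlgebra)
  -- mixed characteristic
  have hqm : (q : R) ∈ maximalIdeal R := by
    rw [← residue_eq_zero_iff, map_natCast, CharP.cast_eq_zero]
  obtain ⟨W, _, _, hW, hW', ⟨e⟩⟩ := CohenRingLib.exists_cohenRing (ResidueField R)
  obtain ⟨v, hv, hve⟩ := CohenRingLib.exists_lift_residue hW e.toRingHom
  haveI := hv
  haveI := CohenRingLib.isDomain_of_cohen hW
  haveI := CohenRingLib.noetherian_of_cohen hW
  haveI := CohenRingLib.isAdicComplete_of_cohen hW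
  haveI : CharP (ResidueField W) q := charP_of_injective_ringHom (f := e.symm.toRingHom) e.symm.injective q
  obtain ⟨y, hy, hrad⟩ := hsop hqm (Nat.cast_ne_zero.2 hqp.ne_zero)
  obtain ⟨g, hg, hginj, hdom⟩ := NagataCompleteLib.exists_normalization (a := 1) (m := d - 1) v
    (fun c => by
      obtain ⟨w, hw⟩ := residue_surjective (e.symm c)
      exact ⟨w, by rw [RingHom.comp_apply, hve, hw]; simp⟩)
    (fun _ => (q : W)) (by rw [Set.range_const, CohenRingLib.maximalIdeal_of_cohen hW q])
    y hy
    (hrad.trans (Ideal.radical_mono (Ideal.span_le.2 (by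
      rintro _ (rfl | ⟨i, rfl⟩)
      · refine Ideal.mem_sup_left ?_
        rw [CohenRingLib.maximalIdeal_of_cohen hW q, Ideal.map_span, Set.image_singleton, map_natCast]
        exact Ideal.mem_span_singleton_self _
      · exact Ideal.mem_sup_right (Ideal.subset_span ⟨i, rfl⟩)))))
    hd (by omega)
  let R0 := MvPowerSeries (Fin (d - 1)) W
  haveI : IsDomain R0 := hdom
  letI : Algebra R0 R := g.toAlgebra
  haveI : Module.Finite R0 R := hg
  haveI : IsRegularRing W := by
    rcases hW with ⟨hf, -⟩ | ⟨_, hdvr, -⟩
    · letI := hf.toField; infer_instance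
    · haveI := hdvr; infer_instance
  haveI : IsRegularRing R0 := S5784.result W (d - 1)
  haveI : CharZero R0 := ⟨fun a b h => Nat.cast_injective (R := R) (by simpa using congrArg g h)⟩
  letI : Algebra R0 B := ((algebraMap R B).comp g).toAlgebra
  haveI : IsScalarTower R0 R B := IsScalarTower.of_algebraMap_eq fun _ => rfl
  haveI : Module.Finite R0 B := Module.Finite.trans R B
  exact exists_open_finite_charZero R0 B (hB.comp hginj)

/-- A complete Noetherian local ring is J-2. -/
theorem isJ2_complete (A : Type u) [CommRing A] [IsLocalRing A] [IsNoetherianRing A]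
    [IsAdicComplete (maximalIdeal A) A] : EGA4.IsJ2 A := by
  refine RegLocLib.isJ2_of_finite_domains fun A' _ _ _ hfin => ?_
  haveI := hfin
  let P := RingHom.ker (algebraMap A A')
  haveI : P.IsPrime := RingHom.ker_isPrime _
  haveI : IsLocalRing (A ⧸ P) := IsLocalRing.of_surjective' (Ideal.Quotient.mk P) Ideal.Quotient.mk_surjective
  haveI := FiniteCompleteLib.isAdicComplete_maximalIdeal A (A ⧸ P)
  letI : Algebra (A ⧸ P) A' := (RingHom.kerLift (algebraMap A A')).toAlgebra
  haveI : IsScalarTower A (A ⧸ P) A' := .of_algebraMap_eq fun _ => rfl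
  haveI : Module.Finite (A ⧸ P) A' := Module.Finite.of_restrictScalars_finite A _ _
  exact exists_open_finite_complete (A ⧸ P) A' (RingHom.kerLift_injective _)

end Groth.Agent.J2CompleteLib
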