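import Groth.Agent.J2CompleteLib.Deriv

/-!
# Separation in finite extensions
-/

set_option autoImplicit false
set_option backward.isDefEq.respectTransparency false
universe u

namespace Groth.Agent.J2CompleteLib

/-- The infinitesimal deformation given by a derivation into an algebra. -/
noncomputable def defHom {A L : Type u} [CommRing A] [CommRing L] [Algebra A L]
    (δ : Derivation ℤ A L) : A →+* TrivSqZeroExt L L where
  toFun c := TrivSqZeroExt.inl (algebraMap A L c) + TrivSqZeroExt.inr (δ c)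
  map_one' := TrivSqZeroExt.ext (by simp) (by simp)
  map_mul' x y := TrivSqZeroExt.ext (by simp) (by
    simp only [TrivSqZeroExt.snd_mul, TrivSqZeroExt.fst_add, TrivSqZeroExt.fst_inl, TrivSqZeroExt.fst_inr,
      TrivSqZeroExt.snd_add, TrivSqZeroExt.snd_inl, TrivSqZeroExt.snd_inr, Derivation.leibniz,
      op_smul_eq_smul, map_mul, add_zero, zero_add, Algebra.smul_def, Algebra.algebraMap_self_apply])
  map_zero' := TrivSqZeroExt.ext (by simp) (by simp)
  map_add' x y := TrivSqZeroExt.ext (by simp) (by simp)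

/-- A section of the infinitesimal deformation is a derivation. -/
theorem exists_derivation_of_section {A L : Type u} [CommRing A] [CommRing L] [Algebra A L]
    (δ : Derivation ℤ A L) (ψ : L →+* TrivSqZeroExt L L) (hψ : ∀ z, (ψ z).fst = z)
    (hA : ∀ c, ψ (algebraMap A L c) = defHom δ c) :
    ∃ E : Derivation ℤ L L, (∀ c, E (algebraMap A L c) = δ c) ∧ ∀ z, E z = (ψ z).snd := by
  refine ⟨Derivation.mk' (AddMonoidHom.mk' (fun z => (ψ z).snd) fun x y => by simp).toIntLinearMap
    fun x y => ?_, fun c => ?_, fun z => rfl⟩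
  · show (ψ (x * y)).snd = x * (ψ y).snd + y * (ψ x).snd
    simp [hψ]; ring
  · show (ψ (algebraMap A L c)).snd = δ c
    rw [hA]; simp [defHom]

/-- Derivations extend along formally smooth algebras. -/
theorem exists_ext_of_formallySmooth {A L : Type u} [CommRing A] [CommRing L] [Algebra A L]
    [Algebra.FormallySmooth A L] (δ : Derivation ℤ A L) :
    ∃ E : Derivation ℤ L L, ∀ c, E (algebraMap A L c) = δ c := by
  letI : Algebra A (TrivSqZeroExt L L) := (defHom δ).toAlgebra
  let π : TrivSqZeroExt L L →ₐ[A] L :=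
    { (TrivSqZeroExt.fstHom L L L).toRingHom with
      commutes' := fun c => by
        show (TrivSqZeroExt.inl (algebraMap A L c) + TrivSqZeroExt.inr (δ c) : TrivSqZeroExt L L).fst = _
        simp }
  have hsurj : Function.Surjective π := fun z => ⟨TrivSqZeroExt.inl z, rfl⟩
  have hker : IsNilpotent (RingHom.ker π.toRingHom) := by
    refine ⟨2, (pow_two (RingHom.ker π.toRingHom)).trans ?_⟩
    rw [Ideal.zero_eq_bot, eq_bot_iff, Ideal.mul_le]
    intro r hr z hz
    have h1 : r.fst = 0 := hr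
    have h2 : z.fst = 0 := hz
    rw [Submodule.mem_bot]
    exact TrivSqZeroExt.ext (by simp [h1]) (by simp [h1, h2])
  let w := Algebra.FormallySmooth.liftOfSurjective (AlgHom.id A L) π hsurj hker
  obtain ⟨E, hE, -⟩ := exists_derivation_of_section δ w.toRingHom
    (fun z => Algebra.FormallySmooth.liftOfSurjective_apply (AlgHom.id A L) π hsurj hker z) w.commutes
  exact ⟨E, hE⟩

/-- Derivations extend to radical extensions of exponent one. -/
theorem exists_ext_of_pow {K L : Type u} [Field K] [Field L] [Algebra K L] (p : ℕ) [CharP L p]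
    (pb : PowerBasis K L) {a : K} (hf : minpoly K pb.gen = Polynomial.X ^ p - Polynomial.C a)
    (δ : Derivation ℤ K L) (ha : δ a = 0) (y : L) :
    ∃ E : Derivation ℤ L L, (∀ c, E (algebraMap K L c) = δ c) ∧ E pb.gen = y := by
  letI : Algebra K (TrivSqZeroExt L L) := (defHom δ).toAlgebra
  have hgen : pb.gen ^ p = algebraMap K L a := by
    have := minpoly.aeval K pb.gen
    rwa [hf, map_sub, map_pow, Polynomial.aeval_X, Polynomial.aeval_C, sub_eq_zero] at this
  let z : TrivSqZeroExt L L := TrivSqZeroExt.inl pb.gen + TrivSqZeroExt.inr y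
  have hz : Polynomial.aeval z (minpoly K pb.gen) = 0 := by
    rw [hf, map_sub, map_pow, Polynomial.aeval_X, Polynomial.aeval_C, sub_eq_zero]
    refine TrivSqZeroExt.ext ?_ ?_
    · simp [z, RingHom.algebraMap_toAlgebra, defHom, hgen]
    · rw [TrivSqZeroExt.snd_pow]
      simp [z, RingHom.algebraMap_toAlgebra, defHom, ha, CharP.cast_eq_zero]
  let ψ := pb.lift z hz
  have hψ : ∀ w, (ψ w).fst = w := by
    intro w
    let π : TrivSqZeroExt L L →ₐ[K] L :=
      { (TrivSqZeroExt.fstHom L L L).toRingHom with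
        commutes' := fun c => by
          show (TrivSqZeroExt.inl (algebraMap K L c) + TrivSqZeroExt.inr (δ c) : TrivSqZeroExt L L).fst = _
          simp }
    have : π.comp ψ = AlgHom.id K L := pb.algHom_ext (by
      show (ψ pb.gen).fst = pb.gen
      rw [pb.lift_gen z hz]; simp [z])
    exact DFunLike.congr_fun this w
  obtain ⟨E, hE, hEψ⟩ := exists_derivation_of_section δ ψ.toRingHom hψ ψ.commutes
  refine ⟨E, hE, ?_⟩
  rw [hEψ]
  show (ψ pb.gen).snd = y
  rw [pb.lift_gen z hz]; simp [z]

section Field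

variable {K L : Type u} [Field K] [Field L] [Algebra K L] {D : Subring K}

/-- The subring of `L` generated by a subring of `K` and an element. -/
def adjoinElt (D : Subring K) (θ : L) : Subring L :=
  Subring.closure (insert θ (algebraMap K L '' (D : Set K)))

theorem map_mem_adjoinElt {r : K} (hr : r ∈ D) (θ : L) : algebraMap K L r ∈ adjoinElt D θ :=
  Subring.subset_closure (Set.mem_insert_of_mem _ ⟨r, hr, rfl⟩)

theorem mem_adjoinElt (D : Subring K) (θ : L) : θ ∈ adjoinElt D θ :=
  Subring.subset_closure (Set.mem_insert _ _)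

theorem isFrac_adjoinElt (hD : IsFrac D) {θ : L} (hθ : Algebra.adjoin K {θ} = ⊤) :
    IsFrac (adjoinElt D θ) := by
  intro z
  have hz : z ∈ Algebra.adjoin K ({θ} : Set L) := hθ ▸ trivial
  suffices ∃ u ∈ adjoinElt D θ, ∃ b ∈ D, b ≠ 0 ∧ z * algebraMap K L b = u by
    obtain ⟨u, hu, b, hb, hb0, h⟩ := this
    exact ⟨u, hu, _, map_mem_adjoinElt hb θ, (map_ne_zero _).2 hb0, h⟩
  induction hz using Algebra.adjoin_induction with
  | mem w hw =>
    obtain rfl := Set.mem_singleton_iff.1 hw
    exact ⟨w, mem_adjoinElt D w, 1, one_mem D, one_ne_zero, by simp⟩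
  | algebraMap k =>
    obtain ⟨a, ha, b, hb, hb0, hab⟩ := hD k
    exact ⟨_, map_mem_adjoinElt ha θ, b, hb, hb0, by rw [← map_mul, hab]⟩
  | add x y _ _ hx hy =>
    obtain ⟨u, hu, b, hb, hb0, hxb⟩ := hx
    obtain ⟨v, hv, c, hc, hc0, hyc⟩ := hy
    exact ⟨u * algebraMap K L c + v * algebraMap K L b,
      add_mem (mul_mem hu (map_mem_adjoinElt hc θ)) (mul_mem hv (map_mem_adjoinElt hb θ)),
      b * c, mul_mem hb hc, mul_ne_zero hb0 hc0, by rw [← hxb, ← hyc, map_mul]; ring⟩
  | mul x y _ _ hx hy =>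
    obtain ⟨u, hu, b, hb, hb0, hxb⟩ := hx
    obtain ⟨v, hv, c, hc, hc0, hyc⟩ := hy
    exact ⟨u * v, mul_mem hu hv, b * c, mul_mem hb hc, mul_ne_zero hb0 hc0,
      by rw [← hxb, ← hyc, map_mul]; ring⟩

theorem bdd_adjoinElt (hD : IsFrac D) {θ : L} (hθ : Algebra.adjoin K {θ} = ⊤)
    {δ : Derivation ℤ K K} (hδ : Bdd D δ) {E : Derivation ℤ L L}
    (hE : ∀ c, E (algebraMap K L c) = algebraMap K L (δ c)) : Bdd (adjoinElt D θ) E := by
  obtain ⟨g, hg, hg0, hgδ⟩ := hδ
  obtain ⟨u, hu, b, hb, hb0, hub⟩ := isFrac_adjoinElt hD hθ (E θ)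
  refine ⟨algebraMap K L g * b, mul_mem (map_mem_adjoinElt hg θ) hb,
    mul_ne_zero ((map_ne_zero _).2 hg0) hb0, fun r hr => ?_⟩
  induction hr using Subring.closure_induction with
  | mem w hw =>
    rcases hw with rfl | ⟨c, hc, rfl⟩
    · rw [show algebraMap K L g * b * E w = algebraMap K L g * (E w * b) by ring, hub]
      exact mul_mem (map_mem_adjoinElt hg w) hu
    · rw [hE, show algebraMap K L g * b * algebraMap K L (δ c) = b * algebraMap K L (g * δ c) by
        rw [map_mul]; ring]
      exact mul_mem hb (map_mem_adjoinElt (hgδ c hc) θ)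
  | zero => simp [zero_mem]
  | one => simp [zero_mem]
  | add x y _ _ hx hy => rw [map_add, mul_add]; exact add_mem hx hy
  | neg x _ hx => rw [map_neg, mul_neg]; exact neg_mem hx
  | mul x y hx' hy' hx hy =>
    rw [Derivation.leibniz, smul_eq_mul, smul_eq_mul, mul_add, mul_left_comm, mul_left_comm _ y]
    exact add_mem (mul_mem hx' hy) (mul_mem hy' hx)

/-- The derivation `c ↦ δ c` with values in `L`. -/
noncomputable def pushDer (δ : Derivation ℤ K K) : Derivation ℤ K L :=
  (Algebra.linearMap K L).compDer δ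

theorem pushDer_apply (δ : Derivation ℤ K K) (c : K) :
    (pushDer δ : Derivation ℤ K L) c = algebraMap K L (δ c) := rfl

variable (p : ℕ) [Fact p.Prime] [CharP K p]

/-- Separation passes to separable extensions. -/
theorem sep_separable (hD : IsFrac D) (hsep : Sep p D) [Algebra.IsSeparable K L] [FiniteDimensional K L]
    {θ : L} (hθ : Algebra.adjoin K {θ} = ⊤) : Sep p (adjoinElt D θ) := by
  haveI : CharP L p := charP_of_injective_algebraMap (algebraMap K L).injective p
  haveI : ExpChar K p := ExpChar.prime Fact.out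
  haveI := Algebra.FormallyEtale.of_isSeparable K L
  intro x hx
  have htop : IntermediateField.adjoin K {θ ^ p} = ⊤ := by
    rw [← IntermediateField.adjoin_simple_eq_adjoin_pow_expChar_of_isSeparable' K L θ p, eq_top_iff]
    intro z _
    exact IntermediateField.algebra_adjoin_le_adjoin K _ (hθ ▸ trivial)
  let pb : PowerBasis K L :=
    (IntermediateField.adjoin.powerBasis (Algebra.IsIntegral.isIntegral (R := K) (θ ^ p))).map
      ((IntermediateField.equivOfEq htop).trans IntermediateField.topEquiv)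
  have hgen : pb.gen = θ ^ p := rfl
  have hsum : x = ∑ i, algebraMap K L (pb.basis.repr x i) * (θ ^ p) ^ (i : ℕ) := by
    conv_lhs => rw [← pb.basis.sum_repr x]
    simp [Algebra.smul_def, hgen]
  have hroot : ∀ i, ∃ y, y ^ p = pb.basis.repr x i := fun i => hsep _ fun δ hδ => by
    obtain ⟨E, hE⟩ := exists_ext_of_formallySmooth (L := L) (pushDer δ : Derivation ℤ K L)
    have h0 := hx E (bdd_adjoinElt hD hθ hδ fun c => hE c)
    rw [hsum] at h0
    have hpow : ∀ (w : L) (n : ℕ), E ((w ^ p) ^ n) = 0 := fun w n => by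
      rw [← pow_mul, mul_comm, pow_mul, Derivation.leibniz_pow, ← Nat.cast_smul_eq_nsmul L,
        CharP.cast_eq_zero, zero_smul]
    simp only [map_sum, Derivation.leibniz, hpow, smul_zero, zero_add, hE, smul_eq_mul, pushDer_apply] at h0
    exact Fintype.linearIndependent_iff.1 pb.basis.linearIndependent (fun i => δ (pb.basis.repr x i)) (by
      simpa [Algebra.smul_def, hgen, mul_comm] using h0) i
  choose y hy using hroot
  refine ⟨∑ i, algebraMap K L (y i) * θ ^ (i : ℕ), ?_⟩
  conv_rhs => rw [hsum]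
  rw [sum_pow_char]
  refine Finset.sum_congr rfl fun i _ => ?_
  rw [mul_pow, ← map_pow, hy, ← pow_mul, ← pow_mul, mul_comm]
  rw [mul_comm (i : ℕ) p, mul_comm]

/-- Separation passes to radical extensions of exponent one. -/
theorem sep_insep (hD : IsFrac D) (hsep : Sep p D) (pb : PowerBasis K L) {a : K}
    (hf : minpoly K pb.gen = Polynomial.X ^ p - Polynomial.C a) (hap : ∀ b : K, b ^ p ≠ a) :
    Sep p (adjoinElt D pb.gen) := by
  haveI : CharP L p := charP_of_injective_algebraMap (algebraMap K L).injective p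
  have hdim : pb.dim = p := by
    rw [← pb.natDegree_minpoly, hf, Polynomial.natDegree_X_pow_sub_C]
  have hgen : pb.gen ^ p = algebraMap K L a := by
    have := minpoly.aeval K pb.gen
    rwa [hf, map_sub, map_pow, Polynomial.aeval_X, Polynomial.aeval_C, sub_eq_zero] at this
  have hθ : Algebra.adjoin K {pb.gen} = ⊤ := pb.adjoin_gen_eq_top
  intro x hx
  -- the coefficients in positive degree vanish
  obtain ⟨E, hE, hEy⟩ := exists_ext_of_pow p pb hf (pushDer 0 : Derivation ℤ K L) (by simp [pushDer_apply]) 1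
  have hE0 : ∀ c, E (algebraMap K L c) = 0 := fun c => by simp [hE, pushDer_apply]
  have hEb : Bdd (adjoinElt D pb.gen) E :=
    bdd_adjoinElt hD hθ (δ := 0) ⟨1, one_mem D, one_ne_zero, fun r _ => by simp [zero_mem]⟩
      fun c => by simp [hE0]
  have hsum : x = ∑ i, algebraMap K L (pb.basis.repr x i) * pb.gen ^ (i : ℕ) := by
    conv_lhs => rw [← pb.basis.sum_repr x]
    simp [Algebra.smul_def]
  obtain ⟨c₀, hc₀⟩ : ∃ c₀, x = algebraMap K L c₀ := by
    have h0 := hx E hEb
    rw [hsum] at h0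
    simp only [map_sum, Derivation.leibniz, hE0, smul_zero, add_zero, Derivation.leibniz_pow, hEy, smul_eq_mul,
      mul_one, nsmul_eq_mul] at h0
    have hli := Fintype.linearIndependent_iff.1 pb.basis.linearIndependent
    let c : Fin pb.dim → K := fun j => if h : (j : ℕ) + 1 < pb.dim then
      ((j : ℕ) + 1 : K) * pb.basis.repr x ⟨(j : ℕ) + 1, h⟩ else 0
    obtain ⟨m, hm⟩ : ∃ m, pb.dim = m + 1 := ⟨pb.dim - 1, by have := pb.dim_pos; omega⟩
    have hz : ∀ j, c j = 0 := hli c (by
      rw [← h0]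
      rw [← (finCongr hm.symm).sum_comp, ← (finCongr hm.symm).sum_comp, Fin.sum_univ_castSucc, Fin.sum_univ_succ]
      simp only [c, finCongr_apply, Fin.coe_cast, Fin.val_last, Fin.coe_castSucc, Fin.val_zero, Fin.val_succ,
        Nat.cast_zero, zero_mul, mul_zero, zero_add, Nat.add_sub_cancel]
      rw [dif_neg (by omega), zero_smul, add_zero]
      refine Finset.sum_congr rfl fun j _ => ?_
      rw [dif_pos (by omega), Algebra.smul_def, pb.coe_basis]
      simp only [Fin.coe_cast, Fin.coe_castSucc, map_mul, map_add, map_natCast, map_one, Nat.cast_add, Nat.cast_one]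
      rw [show (Fin.cast hm.symm j.succ) = ⟨(j : ℕ) + 1, by omega⟩ from rfl]
      ring)
    refine ⟨pb.basis.repr x ⟨0, pb.dim_pos⟩, ?_⟩
    conv_lhs => rw [hsum]
    rw [Finset.sum_eq_single (⟨0, pb.dim_pos⟩ : Fin pb.dim)]
    · simp
    · intro i _ hi
      obtain ⟨n, hn⟩ : ∃ n, (i : ℕ) = n + 1 := ⟨(i : ℕ) - 1, by
        have : (i : ℕ) ≠ 0 := fun h => hi (Fin.ext h)
        omega⟩
      have h1 := hz ⟨n, by omega⟩
      simp only [c] at h1
      rw [dif_pos (show n + 1 < pb.dim by omega), show (⟨n + 1, by omega⟩ : Fin pb.dim) = i from Fin.ext hn.symm] at h1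
      rcases mul_eq_zero.1 h1 with h | h
      · exfalso
        rw [← Nat.cast_succ, CharP.cast_eq_zero_iff K p] at h
        have := Nat.le_of_dvd (Nat.succ_pos n) h
        omega
      · rw [h, map_zero, zero_mul]
    · simp
  obtain ⟨δ₁, hδ₁, hδa⟩ : ∃ δ : Derivation ℤ K K, Bdd D δ ∧ δ a ≠ 0 := by
    by_contra! h
    obtain ⟨b, hb⟩ := hsep a h
    exact hap b hb
  obtain ⟨c, hc⟩ := exists_coeff_of_killed p hD hsep (a := a) (δ₁ := (δ₁ a)⁻¹ • δ₁)
    ((hδ₁.smul hD (δ₁ a)⁻¹).congr fun z => rfl) (by simp [inv_mul_cancel₀ hδa]) (x := c₀) fun δ hδ hδ0 => by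
      obtain ⟨E', hE', hE'y⟩ := exists_ext_of_pow p pb hf (pushDer δ : Derivation ℤ K L)
        (by simp [pushDer_apply, hδ0]) 0
      have h1 := hx E' (bdd_adjoinElt hD hθ hδ fun z => hE' z)
      rw [hc₀, hE', pushDer_apply, map_eq_zero] at h1
      exact h1
  refine ⟨∑ i ∈ Finset.range p, algebraMap K L (c i) * pb.gen ^ i, ?_⟩
  rw [hc₀, hc, map_sum, sum_pow_char]
  refine Finset.sum_congr rfl fun i _ => ?_
  rw [mul_pow, map_mul, map_pow, map_pow, ← pow_mul, mul_comm i p, pow_mul, hgen]

end Field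

end Groth.Agent.J2CompleteLib
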