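import Groth.Agent.FlatDepth.Fibres
import Groth.Agent.RegHomLib.Basic
import Groth.Agent.RegDesc.Basic

/-!
# Descending openness of loci along faithfully flat maps
-/

set_option autoImplicit false
set_option backward.isDefEq.respectTransparency false
set_option maxHeartbeats 1000000
universe u

open IsLocalRing TensorProduct

namespace Groth.Agent.J2CompleteLib

/-- Openness descends along faithfully flat maps. -/
theorem isOpen_of_comap {A B : Type u} [CommRing A] [CommRing B] [Algebra A B] [Module.FaithfullyFlat A B]
    {s : Set (PrimeSpectrum A)} (h : IsOpen (PrimeSpectrum.comap (algebraMap A B) ⁻¹' s)) : IsOpen s :=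
  ((PrimeSpectrum.isQuotientMap_of_generalizingMap (f := algebraMap A B)
    PrimeSpectrum.comap_surjective_of_faithfullyFlat
    (RingHom.Flat.generalizingMap_comap (RingHom.flat_algebraMap_iff.2 inferInstance))).isOpen_preimage).mp h

/-- A local property satisfying ascent passes to the points over a point having it. -/
theorem localization_of_fibre {P : ∀ (R : Type u) [CommRing R], Prop}
    (hP : ∀ (A B : Type u) [CommRing A] [CommRing B] [IsLocalRing A] [IsLocalRing B] [IsNoetherianRing A]
      [IsNoetherianRing B] [Algebra A B] [IsLocalHom (algebraMap A B)] [Module.Flat A B],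
      P A → P (B ⧸ (maximalIdeal A).map (algebraMap A B)) → P B)
    (hiso : ∀ (A B : Type u) [CommRing A] [CommRing B] [IsNoetherianRing A], (A ≃+* B) → P A → P B)
    (R S : Type u) [CommRing R] [CommRing S] [IsNoetherianRing R] [IsNoetherianRing S] [Algebra R S] [Module.Flat R S]
    (q : Ideal S) [hq : q.IsPrime] (hR : P (Localization.AtPrime (q.comap (algebraMap R S))))
    (hfib : ∀ (p : Ideal R) [p.IsPrime] (Q : Ideal (p.Fiber S)) [Q.IsPrime], P (Localization.AtPrime Q)) :
    P (Localization.AtPrime q) := by
  let p := q.comap (algebraMap R S)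
  haveI : q.LiesOver p := ⟨rfl⟩
  let e := PrimeSpectrum.preimageEquivFiber R S ⟨p, inferInstance⟩
  let Q := e ⟨⟨q, hq⟩, rfl⟩
  have hQ : Q.asIdeal.comap (Algebra.TensorProduct.includeRight : S →ₐ[R] p.Fiber S) = q := by
    have := congrArg (fun x => x.1.asIdeal) (e.symm_apply_apply ⟨⟨q, hq⟩, rfl⟩)
    exact this
  have hF := hfib p Q.asIdeal
  set r := Q.asIdeal.comap (Algebra.TensorProduct.includeRight : S →ₐ[R] p.Fiber S) with hr
  haveI : r.IsPrime := Ideal.IsPrime.comap _
  suffices P (Localization.AtPrime r) by
    exact (show ∀ (I : Ideal S) (_ : I.IsPrime), I = r → P (Localization.AtPrime I) from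
      fun I _ e => by subst e; exact this) q hq hQ.symm
  haveI : r.LiesOver p := ⟨hQ ▸ rfl⟩
  letI : Algebra (Localization.AtPrime p) (Localization.AtPrime r) := Localization.AtPrime.algebraOfLiesOver p r
  haveI := Localization.isLocalHom_localRingHom p r (algebraMap R S) (Ideal.over_def r p)
  haveI : IsLocalHom (algebraMap (Localization.AtPrime p) (Localization.AtPrime r)) := this
  haveI : IsNoetherianRing (Localization.AtPrime r) := IsLocalization.isNoetherianRing r.primeCompl _ inferInstance
  haveI : IsNoetherianRing (Localization.AtPrime p) := IsLocalization.isNoetherianRing p.primeCompl _ inferInstance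
  have e2 := Ideal.Fiber.localizationAlgEquivQuotient p Q.asIdeal
  have hmap : p.map (algebraMap R (Localization.AtPrime r)) =
      (maximalIdeal (Localization.AtPrime p)).map (algebraMap (Localization.AtPrime p) (Localization.AtPrime r)) := by
    rw [← Localization.AtPrime.map_eq_maximalIdeal, Ideal.map_map, ← IsScalarTower.algebraMap_eq]
  let e3 := e2.toRingEquiv.trans (Ideal.quotEquivOfEq hmap)
  haveI : IsNoetherianRing (Localization.AtPrime Q.asIdeal) := isNoetherianRing_of_ringEquiv _ e3.symm
  exact hP (Localization.AtPrime p) (Localization.AtPrime r) hR (hiso _ _ e3 hF)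

/-- For a regular homomorphism the regular locus upstairs is the preimage of the one downstairs. -/
theorem regLocus_preimage {A B : Type u} [CommRing A] [CommRing B] [Algebra A B] [IsNoetherianRing A]
    [IsNoetherianRing B] (h : CAlg.IsRegularHom A B) :
    PrimeSpectrum.comap (algebraMap A B) ⁻¹' EGA4.regLocus A = EGA4.regLocus B := by
  haveI := h.1
  refine Set.ext fun q => ⟨fun hp => ?_, fun hq => ?_⟩
  · refine localization_of_fibre (P := fun R [CommRing R] => IsRegularLocalRing R)
      (fun A B _ _ _ _ _ _ _ _ _ h1 h2 => haveI := h1; haveI := h2; RegHomLib.isRegularLocalRing_of_fibre A B)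
      (fun _ _ _ _ _ e h => haveI := h; IsRegularLocalRing.of_ringEquiv e) A B q.asIdeal hp fun p _ Q _ => ?_
    obtain ⟨hN, hreg⟩ := h.2 p
    haveI := hN
    haveI := hreg p.ResidueField (Module.Finite.self _)
    haveI : IsRegularRing (p.Fiber B) := IsRegularRing.of_ringEquiv (R := p.ResidueField ⊗[p.ResidueField] p.Fiber B)
      (Algebra.TensorProduct.lid p.ResidueField (p.Fiber B)).toRingEquiv
    exact IsRegularRing.isRegularLocalRing_localization Q
  · exact RegDesc.isRegularLocalRing_comap_of_flat A B q.asIdeal hq

/-- With Cohen–Macaulay fibres the Cohen–Macaulay locus upstairs is the preimage of the one downstairs. -/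
theorem cmLocus_preimage {A B : Type u} [CommRing A] [CommRing B] [Algebra A B] [IsNoetherianRing A]
    [IsNoetherianRing B] [Module.Flat A B] (h : ∀ (p : Ideal A) [p.IsPrime], LocCoh.IsCohenMacaulayRing (p.Fiber B)) :
    PrimeSpectrum.comap (algebraMap A B) ⁻¹' {p | LocCoh.IsCohenMacaulayLocalRing (Localization.AtPrime p.asIdeal)} =
      {q | LocCoh.IsCohenMacaulayLocalRing (Localization.AtPrime q.asIdeal)} := by
  refine Set.ext fun q => ⟨fun hp => ?_, fun hq => ?_⟩
  · exact localization_of_fibre (P := fun R [CommRing R] => LocCoh.IsCohenMacaulayLocalRing R)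
      (fun A B _ _ _ _ _ _ _ _ _ h1 h2 => (FlatDepth.cm_ascend_descend A B).2 ⟨h1, h2⟩)
      (fun _ _ _ _ _ e h => haveI := h; CMCat.isCohenMacaulayLocalRing_of_ringEquiv e) A B q.asIdeal hp
      fun p _ Q _ => (h p).isCohenMacaulayLocalRing_localization Q
  · let p := q.asIdeal.comap (algebraMap A B)
    haveI : q.asIdeal.LiesOver p := ⟨rfl⟩
    letI : Algebra (Localization.AtPrime p) (Localization.AtPrime q.asIdeal) :=
      Localization.AtPrime.algebraOfLiesOver p q.asIdeal
    haveI : IsLocalHom (algebraMap (Localization.AtPrime p) (Localization.AtPrime q.asIdeal)) :=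
      Localization.isLocalHom_localRingHom _ q.asIdeal (algebraMap A B) (Ideal.over_def q.asIdeal _)
    haveI : IsNoetherianRing (Localization.AtPrime p) := IsLocalization.isNoetherianRing p.primeCompl _ inferInstance
    haveI : IsNoetherianRing (Localization.AtPrime q.asIdeal) :=
      IsLocalization.isNoetherianRing q.asIdeal.primeCompl _ inferInstance
    exact ((FlatDepth.cm_ascend_descend (Localization.AtPrime p) (Localization.AtPrime q.asIdeal)).1 hq).1

end Groth.Agent.J2CompleteLib
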