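import Groth.Agent.J2CompleteLib.Chain
import Groth.Agent.NagataCompleteLib.Complete
import Groth.Agent.FieldExtLib.Separable

/-!
# Complete Noetherian local rings are J-2
-/

set_option autoImplicit false
set_option backward.isDefEq.respectTransparency false
set_option maxHeartbeats 1000000
universe u

namespace Groth.Agent.J2CompleteLib

local instance {σ k : Type*} [CommRing k] [IsDomain k] : IsDomain (MvPowerSeries σ k) :=
  NoZeroDivisors.to_isDomain _

/-- Absolute derivations of a ring. -/
abbrev Der (A : Type u) [CommRing A] := Derivation ℤ A A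

/-- An additive map satisfying the Leibniz rule is an absolute derivation. -/
noncomputable def mkDer {A : Type u} [CommRing A] (F : A → A) (hadd : ∀ x y, F (x + y) = F x + F y)
    (hmul : ∀ x y, F (x * y) = x * F y + y * F x) : Der A :=
  Derivation.mk' (AddMonoidHom.mk' F hadd).toIntLinearMap hmul

theorem mkDer_apply {A : Type u} [CommRing A] (F : A → A) (hadd : ∀ x y, F (x + y) = F x + F y)
    (hmul : ∀ x y, F (x * y) = x * F y + y * F x) (x : A) : mkDer F hadd hmul x = F x := rfl

/-- A derivation of the coefficients acts on power series. -/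
theorem exists_coeffDer {σ : Type} {k : Type u} [CommRing k] (δ : Derivation ℤ k k) :
    ∃ E : Der (MvPowerSeries σ k),
      ∀ f m, MvPowerSeries.coeff m (E f) = δ (MvPowerSeries.coeff m f) := by
  classical
  let F : MvPowerSeries σ k → MvPowerSeries σ k := fun f m => δ (MvPowerSeries.coeff m f)
  have hF : ∀ f m, MvPowerSeries.coeff m (F f) = δ (MvPowerSeries.coeff m f) := fun f m => rfl
  refine ⟨mkDer F (fun f g => ?_) fun f g => ?_, fun f m => hF f m⟩
  · ext m; simp [hF]
  · ext m
    rw [hF, map_add, mul_comm g (F f), MvPowerSeries.coeff_mul, MvPowerSeries.coeff_mul, MvPowerSeries.coeff_mul,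
      map_sum, ← Finset.sum_add_distrib]
    refine Finset.sum_congr rfl fun x _ => ?_
    rw [hF, hF, Derivation.leibniz, smul_eq_mul, smul_eq_mul]
    ring

/-- An absolute derivation, with values pushed into an algebra. -/
noncomputable def derToAlg {A B : Type u} [CommRing A] [CommRing B] [Algebra A B] (E : Der A) : Derivation ℤ A B :=
  (Algebra.linearMap A B).compDer E

theorem derToAlg_apply {A B : Type u} [CommRing A] [CommRing B] [Algebra A B] (E : Der A) (x : A) :
    (derToAlg E : Derivation ℤ A B) x = algebraMap A B (E x) := rfl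

theorem exists_ext_derToAlg {A L : Type u} [CommRing A] [CommRing L] [Algebra A L] [Algebra.FormallySmooth A L]
    (E : Der A) : ∃ E' : Derivation ℤ L L, ∀ c, E' (algebraMap A L c) = algebraMap A L (E c) := by
  obtain ⟨E', hE'⟩ := exists_ext_of_formallySmooth (L := L) (derToAlg E)
  exact ⟨E', fun c => (hE' c).trans (derToAlg_apply E c)⟩

/-- A power series killed by all derivations is a `p`-th power. -/
theorem exists_pow_eq_of_killed {k : Type u} [Field k] (p : ℕ) [Fact p.Prime] [CharP k p] (n : ℕ)
    (f : MvPowerSeries (Fin n) k)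
    (hf : ∀ E : Der (MvPowerSeries (Fin n) k), E f = 0) :
    ∃ g, g ^ p = f := by
  classical
  have hroot : ∀ m, ∃ c : k, c ^ p = MvPowerSeries.coeff m f := by
    intro m
    by_contra! h
    obtain ⟨δ, hδ⟩ := FieldExtLib.exists_derivation_ne_zero p h
    obtain ⟨E, hE⟩ := exists_coeffDer (σ := Fin n) δ
    exact hδ (by rw [← hE, hf E, map_zero])
  have hdiv : ∀ m : Fin n →₀ ℕ, MvPowerSeries.coeff m f ≠ 0 → ∀ i, p ∣ m i := by
    intro m hm i
    by_contra hi
    have hpos : 1 ≤ m i := Nat.one_le_iff_ne_zero.2 fun h => hi (h ▸ dvd_zero p)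
    let E : Der (MvPowerSeries (Fin n) k) :=
      mkDer (fun g => MvPowerSeries.pderiv k i g) (fun x y => map_add (MvPowerSeries.pderiv k i) x y) fun x y =>
        Derivation.leibniz (MvPowerSeries.pderiv k i) x y
    have h0 : MvPowerSeries.coeff (m - Finsupp.single i 1) (MvPowerSeries.pderiv k i f) = 0 := by
      rw [show MvPowerSeries.pderiv k i f = 0 from hf E, map_zero]
    rw [MvPowerSeries.coeff_pderiv, tsub_add_cancel_of_le (Finsupp.single_le_iff.2 hpos),
      Finsupp.tsub_apply, Finsupp.single_eq_same] at h0
    rcases mul_eq_zero.1 h0 with h | h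
    · exact hm h
    · rw [← Nat.cast_succ, show Nat.succ (m i - 1) = m i by omega, CharP.cast_eq_zero_iff k p] at h
      exact hi h
  choose c hc using hroot
  refine ⟨fun m => c (p • m), ?_⟩
  haveI : ExpChar k p := ExpChar.prime Fact.out
  have hp : p ≠ 0 := (Fact.out : p.Prime).ne_zero
  ext m
  rw [← MvPowerSeries.map_frobenius_expand p hp, MvPowerSeries.coeff_map]
  by_cases hm : ∀ i, p ∣ m i
  · choose q hq using hm
    obtain rfl : m = p • Finsupp.equivFunOnFinite.symm q := Finsupp.ext fun i => by simp [hq i]
    rw [MvPowerSeries.coeff_expand_smul, frobenius_def]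
    exact hc _
  · obtain ⟨i, hi⟩ := not_forall.1 hm
    rw [MvPowerSeries.coeff_expand_of_not_dvd p hp _ hi, map_zero]
    by_contra h
    exact hi (hdiv m (fun h' => h h'.symm) i)

/-- Power series over a field of characteristic `p` separate in their fraction field. -/
theorem good_powerSeries (k : Type u) [Field k] (p : ℕ) [Fact p.Prime] [CharP k p] (n : ℕ)
    (K : Type u) [Field K] [Algebra (MvPowerSeries (Fin n) k) K] [IsFractionRing (MvPowerSeries (Fin n) k) K]
    [CharP K p] :
    Good p (algebraMap (MvPowerSeries (Fin n) k) K).range := by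
  let R := MvPowerSeries (Fin n) k
  haveI : IsRegularLocalRing R := WildQuotLib.isRegularLocalRing k n
  have hinj := IsFractionRing.injective R K
  haveI : IsNoetherianRing (algebraMap R K).range :=
    isNoetherianRing_of_surjective R _ (algebraMap R K).rangeRestrict (algebraMap R K).rangeRestrict_surjective
  refine ⟨inferInstance, fun x => ?_, fun x hx => ?_, 1, one_ne_zero, fun Q _ => ?_⟩
  · obtain ⟨a, b, hb, rfl⟩ := IsFractionRing.div_surjective (A := R) x
    exact ⟨_, ⟨a, rfl⟩, _, ⟨b, rfl⟩, (map_ne_zero_iff _ hinj).2 (nonZeroDivisors.ne_zero hb),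
      div_mul_cancel₀ _ ((map_ne_zero_iff _ hinj).2 (nonZeroDivisors.ne_zero hb))⟩
  · obtain ⟨a, b, hb, rfl⟩ := IsFractionRing.div_surjective (A := R) x
    have hb0 : algebraMap R K b ≠ 0 := (map_ne_zero_iff _ hinj).2 (nonZeroDivisors.ne_zero hb)
    have hp : p.Prime := Fact.out
    obtain ⟨g, hg⟩ := exists_pow_eq_of_killed p n (a * b ^ (p - 1)) fun E => hinj (by
      haveI : Algebra.FormallySmooth R K := Algebra.FormallySmooth.of_isLocalization (nonZeroDivisors R)
      obtain ⟨E', hE'⟩ := exists_ext_derToAlg (L := K) E
      have hbd : Bdd (algebraMap R K).range E' := ⟨1, one_mem _, one_ne_zero, by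
        rintro _ ⟨r, rfl⟩
        rw [one_mul, hE']
        exact ⟨E r, rfl⟩⟩
      have h0 := hx E' hbd
      rw [map_zero, ← show E' (algebraMap R K (a * b ^ (p - 1))) = algebraMap R K (E (a * b ^ (p - 1))) from hE' _]
      have heq : algebraMap R K (a * b ^ (p - 1)) = algebraMap R K a / algebraMap R K b * algebraMap R K b ^ p := by
        obtain ⟨q, hq⟩ : ∃ q, p = q + 1 := ⟨p - 1, by have := hp.pos; omega⟩
        subst hq
        rw [map_mul, map_pow, pow_succ, Nat.add_sub_cancel]
        field_simp
      rw [heq, Derivation.leibniz, h0, smul_zero, add_zero, Derivation.leibniz_pow, ← Nat.cast_smul_eq_nsmul K,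
        CharP.cast_eq_zero, zero_smul, smul_zero])
    refine ⟨algebraMap R K g / algebraMap R K b, ?_⟩
    rw [div_pow, ← map_pow, hg, map_mul, map_pow]
    obtain ⟨q, hq⟩ : ∃ q, p = q + 1 := ⟨p - 1, by have := hp.pos; omega⟩
    subst hq
    rw [pow_succ, Nat.add_sub_cancel]
    field_simp
  · haveI : IsRegularLocalRing (algebraMap R K).range := IsRegularLocalRing.of_ringEquiv (R := R)
      (RingEquiv.ofBijective (algebraMap R K).rangeRestrict
        ⟨fun a b h => hinj (congrArg Subtype.val h), (algebraMap R K).rangeRestrict_surjective⟩)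
    haveI := RegLocLib.isRegularRing_of_isRegularLocalRing (algebraMap R K).range
    exact (RegLocLib.regLocus_eq_univ_of_isRegularRing (algebraMap R K).range).ge trivial

section Chain

variable {R L : Type u} [CommRing R] [IsDomain R] [Field L] [Algebra R L]

/-- Every element can be scaled into a given algebra with fraction field `L`. -/
theorem exists_scale {B : Type u} [CommRing B] [IsDomain B] [Algebra R B] [Algebra.IsIntegral R B] [Algebra B L]
    [IsFractionRing B L] [IsScalarTower R B L] (z : L) :
    ∃ r : R, r ≠ 0 ∧ z * algebraMap R L r ∈ (algebraMap B L).range := by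
  obtain ⟨a, b, hb, rfl⟩ := IsFractionRing.div_surjective (A := B) z
  obtain ⟨r, hr, c, hc⟩ := (Algebra.IsIntegral.isIntegral (R := R) b).isAlgebraic.exists_nonzero_dvd hb
  refine ⟨r, hr, a * c, ?_⟩
  rw [IsScalarTower.algebraMap_apply R B L, hc, map_mul, map_mul]
  field_simp [(map_ne_zero_iff _ (IsFractionRing.injective B L)).2 (nonZeroDivisors.ne_zero hb)]

variable (p : ℕ) [Fact p.Prime] [CharP L p]

theorem exists_good_of_chain {B : Type u} [CommRing B] [IsDomain B] [Algebra R B] [Algebra.IsIntegral R B]
    [Algebra B L] [IsFractionRing B L] [IsScalarTower R B L] :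
    ∀ (n : ℕ) (E : Type u) [Field E] [Algebra E L] [FiniteDimensional E L] [IsPurelyInseparable E L] [CharP E p]
      (D : Subring E), Module.finrank E L ≤ n → Good p D → D.map (algebraMap E L) ≤ (algebraMap B L).range →
      (algebraMap R L).range ≤ D.map (algebraMap E L) → Function.Injective (algebraMap R L) →
      ∃ D' : Subring L, Good p D' ∧ D' ≤ (algebraMap B L).range ∧ (algebraMap R L).range ≤ D' := by
  intro n
  induction n with
  | zero =>
    intro E _ _ _ _ _ D hn
    have := Module.finrank_pos (R := E) (M := L)
    omega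
  | succ n ih =>
    intro E _ _ _ _ _ D hn hgood hB hR hinj
    haveI : ExpChar E p := ExpChar.prime Fact.out
    by_cases hsurj : Function.Surjective (algebraMap E L)
    · let e : E ≃+* L := RingEquiv.ofBijective (algebraMap E L) ⟨(algebraMap E L).injective, hsurj⟩
      obtain ⟨hN, hD, hsep, f, hf, hfU⟩ := hgood
      refine ⟨D.map (algebraMap E L), ⟨?_, ?_, ?_, ?_⟩, hB, hR⟩
      · haveI := hN
        exact isNoetherianRing_of_ringEquiv D (D.equivMapOfInjective _ (algebraMap E L).injective)
      · intro z
        obtain ⟨y, rfl⟩ := hsurj z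
        obtain ⟨a, ha, b, hb, hb0, hab⟩ := hD y
        exact ⟨_, ⟨a, ha, rfl⟩, _, ⟨b, hb, rfl⟩, (map_ne_zero _).2 hb0, by rw [← map_mul, hab]⟩
      · intro z hz
        obtain ⟨y, rfl⟩ := hsurj z
        obtain ⟨w, hw⟩ := hsep y fun δ hδ => by
          let δ' : Derivation ℤ L L := Derivation.mk'
            (AddMonoidHom.mk' (fun z => e (δ (e.symm z))) fun u v => by simp).toIntLinearMap fun u v => by
              show e (δ (e.symm (u * v))) = u * e (δ (e.symm v)) + v * e (δ (e.symm u))
              simp [Derivation.leibniz]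
          have hbd : Bdd (D.map (algebraMap E L)) δ' := by
            obtain ⟨g, hg, hg0, hgδ⟩ := hδ
            refine ⟨_, ⟨g, hg, rfl⟩, (map_ne_zero _).2 hg0, ?_⟩
            rintro _ ⟨r, hr, rfl⟩
            refine ⟨g * δ r, hgδ r hr, ?_⟩
            show algebraMap E L (g * δ r) = algebraMap E L g * e (δ (e.symm (e r)))
            rw [RingEquiv.symm_apply_apply, map_mul]; rfl
          have h0 : e (δ (e.symm (e y))) = 0 := hz δ' hbd
          rwa [RingEquiv.symm_apply_apply, map_eq_zero_iff e e.injective] at h0
        exact ⟨algebraMap E L w, by rw [← map_pow, hw]⟩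
      · let eD := D.equivMapOfInjective _ (algebraMap E L).injective
        refine ⟨eD f, (map_ne_zero_iff _ eD.injective).2 hf, fun Q hQ => ?_⟩
        letI : Algebra D (D.map (algebraMap E L)) := eD.toRingHom.toAlgebra
        haveI : IsLocalization (⊥ : Submonoid D) (D.map (algebraMap E L)) :=
          { map_units := fun ⟨s, hs⟩ => by
              obtain rfl : s = 1 := Submonoid.mem_bot.1 hs
              simp
            surj := fun z => ⟨⟨eD.symm z, 1⟩, by simp [RingHom.algebraMap_toAlgebra]⟩
            exists_of_eq := fun h => ⟨1, by rw [eD.injective h]⟩ }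
        exact (RegLocLib.mem_regLocus_iff_of_isLocalization (⊥ : Submonoid D) Q).2 (hfU _ hQ)
    · obtain ⟨x, hx⟩ := not_forall.1 hsurj
      -- an element with `p`-th power in `E`
      obtain ⟨m, hm⟩ := IsPurelyInseparable.pow_mem E p x
      have hP : ∀ (m : ℕ) (z : L), z ∉ (algebraMap E L).range → z ^ p ^ m ∈ (algebraMap E L).range →
          ∃ w : L, w ∉ (algebraMap E L).range ∧ w ^ p ∈ (algebraMap E L).range := by
        intro m
        induction m with
        | zero => intro z h1 h2; exact absurd (by simpa using h2) h1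
        | succ m ihm =>
          intro z h1 h2
          by_cases h : z ^ p ∈ (algebraMap E L).range
          · exact ⟨z, h1, h⟩
          · exact ihm (z ^ p) h (by rwa [← pow_mul, ← pow_succ'])
      obtain ⟨w, hw, y, hy⟩ := hP m x (fun h => hx h) hm
      have hD := hgood.2.1
      obtain ⟨u, hu, v, hv, hv0, huv⟩ := hD y
      obtain ⟨r, hr, hrB⟩ := exists_scale (R := R) (B := B) w
      obtain ⟨r', hr', hr'e⟩ := hR ⟨r, rfl⟩
      have hp : p.Prime := Fact.out
      let θ : L := w * algebraMap R L r * algebraMap E L v
      let a : E := u * v ^ (p - 1) * r' ^ p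
      have ha : a ∈ D := mul_mem (mul_mem hu (pow_mem hv _)) (pow_mem hr' _)
      have hθp : θ ^ p = algebraMap E L a := by
        obtain ⟨q, hq⟩ : ∃ q, p = q + 1 := ⟨p - 1, by have := hp.pos; omega⟩
        simp only [θ, a, mul_pow, map_mul, map_pow, ← hr'e, ← hy, ← huv]
        rw [show p - 1 = q by omega, hq, pow_succ _ q]
        ring
      have hθE : θ ∉ (algebraMap E L).range := by
        rintro ⟨z, hz⟩
        refine hw ⟨z / (r' * v), ?_⟩
        have h1 : algebraMap E L r' ≠ 0 := by rw [hr'e]; exact (map_ne_zero_iff _ hinj).2 hr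
        rw [map_div₀, map_mul, hz]
        simp only [θ, ← hr'e]
        field_simp [h1, (map_ne_zero (algebraMap E L)).2 hv0]
      have hap : ∀ b : E, b ^ p ≠ a := fun b hb => hθE ⟨b, (frobenius L p).injective (by
        simp only [frobenius_def, hθp, ← map_pow, hb])⟩
      let E' : IntermediateField E L := IntermediateField.adjoin E {θ}
      let pb : PowerBasis E E' := IntermediateField.adjoin.powerBasis (Algebra.IsIntegral.isIntegral (R := E) θ)
      have hf : minpoly E pb.gen = Polynomial.X ^ p - Polynomial.C a := by
        have h1 : minpoly E pb.gen = minpoly E θ := minpoly.algebraMap_eq (A := E) (B := E') (B' := L)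
          (algebraMap E' L).injective pb.gen |>.symm
        rw [h1]
        refine (minpoly.eq_of_irreducible_of_monic (X_pow_sub_C_irreducible_of_prime hp hap) ?_
          (Polynomial.monic_X_pow_sub_C _ hp.ne_zero)).symm
        rw [map_sub, map_pow, Polynomial.aeval_X, Polynomial.aeval_C, hθp, sub_self]
      haveI : CharP E' p := charP_of_injective_algebraMap (algebraMap E E').injective p
      haveI : IsPurelyInseparable E' L := IsPurelyInseparable.tower_top E E' L
      have hlt : Module.finrank E' L ≤ n := by
        have h1 := Module.finrank_mul_finrank E E' L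
        have h2 : Module.finrank E E' = p := by
          rw [pb.finrank, ← pb.natDegree_minpoly, hf, Polynomial.natDegree_X_pow_sub_C]
        rw [h2] at h1
        have h3 := Module.finrank_pos (R := E') (M := L)
        have := hp.two_le
        have : 2 * Module.finrank E' L ≤ n + 1 := (Nat.mul_le_mul_right _ this).trans (h1 ▸ hn)
        omega
      refine ih E' (adjoinElt D pb.gen) hlt (good_insep p hgood pb ha hf hap) ?_ ?_ hinj
      · rw [adjoinElt, RingHom.map_closure, Subring.closure_le]
        rintro _ ⟨z, hz | ⟨c, hc, rfl⟩, rfl⟩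
        · subst hz
          show θ ∈ _
          exact mul_mem hrB (hB ⟨v, hv, rfl⟩)
        · show algebraMap E' L (algebraMap E E' c) ∈ _
          rw [← IsScalarTower.algebraMap_apply]
          exact hB ⟨c, hc, rfl⟩
      · refine hR.trans ?_
        rintro _ ⟨c, hc, rfl⟩
        exact ⟨_, map_mem_adjoinElt hc _, (IsScalarTower.algebraMap_apply E E' L c).symm⟩

end Chain

/-- Finite domains over power series in characteristic `p` are generically regular. -/
theorem exists_open_finite_powerSeries (k : Type u) [Field k] (p : ℕ) [Fact p.Prime] [CharP k p] (n : ℕ)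
    (B : Type u) [CommRing B] [IsDomain B] [Algebra (MvPowerSeries (Fin n) k) B]
    [Module.Finite (MvPowerSeries (Fin n) k) B]
    (hinj : Function.Injective (algebraMap (MvPowerSeries (Fin n) k) B)) :
    ∃ U : Set (PrimeSpectrum B), IsOpen U ∧ U.Nonempty ∧ U ⊆ EGA4.regLocus B := by
  let R := MvPowerSeries (Fin n) k
  haveI : IsRegularLocalRing R := WildQuotLib.isRegularLocalRing k n
  let K := FractionRing R
  let L := FractionRing B
  haveI : FaithfulSMul R B := (faithfulSMul_iff_algebraMap_injective _ _).2 hinj
  have hinjL : Function.Injective (algebraMap R L) := by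
    rw [IsScalarTower.algebraMap_eq R B L, RingHom.coe_comp]
    exact (IsFractionRing.injective B L).comp hinj
  haveI : FaithfulSMul R L := (faithfulSMul_iff_algebraMap_injective _ _).2 hinjL
  letI : Algebra K L := FractionRing.liftAlgebra R L
  haveI : CharP R p := charP_of_injective_ringHom (f := MvPowerSeries.C (σ := Fin n) (R := k))
    (fun a b h => by simpa using congrArg MvPowerSeries.constantCoeff h) p
  haveI : CharP K p := charP_of_injective_algebraMap (IsFractionRing.injective R K) p
  haveI : CharP L p := charP_of_injective_algebraMap (algebraMap K L).injective p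
  haveI : Algebra.IsIntegral R B := Algebra.IsIntegral.of_finite R B
  haveI : FiniteDimensional K L := by
    classical
    obtain ⟨s, hs⟩ := (Module.Finite.fg_top : (⊤ : Submodule R B).FG)
    refine ⟨⟨s.image (algebraMap B L), eq_top_iff.2 fun z _ => ?_⟩⟩
    obtain ⟨r, hr, b, hb⟩ := exists_scale (R := R) (B := B) z
    have hmem : algebraMap B L b ∈ Submodule.span K (algebraMap B L '' (s : Set B)) := by
      have : b ∈ Submodule.span R (s : Set B) := by rw [hs]; trivial
      have h2 := Submodule.mem_map_of_mem (f := (IsScalarTower.toAlgHom R B L).toLinearMap) this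
      rw [Submodule.map_span] at h2
      exact Submodule.span_le_restrictScalars R K _ h2
    rw [Finset.coe_image]
    have : z = (algebraMap R K r)⁻¹ • algebraMap B L b := by
      rw [hb, Algebra.smul_def, map_inv₀, ← IsScalarTower.algebraMap_apply, mul_comm z,
        inv_mul_cancel_left₀ ((map_ne_zero_iff _ hinjL).2 hr)]
    rw [this]
    exact Submodule.smul_mem _ _ hmem
  -- the separable step
  let E := separableClosure K L
  obtain ⟨θ₀, hθ₀⟩ := Field.exists_primitive_element K E
  obtain ⟨r, hr, hrB⟩ := exists_scale (R := R) (B := B) (θ₀ : L)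
  let θ : E := θ₀ * algebraMap K E (algebraMap R K r)
  have hθ : Algebra.adjoin K {θ} = ⊤ := by
    have h1 : Algebra.adjoin K {θ₀} = ⊤ := by
      rw [← IntermediateField.adjoin_simple_toSubalgebra_of_isAlgebraic
        (Algebra.IsAlgebraic.isAlgebraic (R := K) θ₀), hθ₀, IntermediateField.top_toSubalgebra]
    rw [eq_top_iff, ← h1, Algebra.adjoin_le_iff, Set.singleton_subset_iff]
    have h2 : θ₀ = θ * algebraMap K E (algebraMap R K r)⁻¹ := by
      show θ₀ = θ₀ * algebraMap K E (algebraMap R K r) * _
      rw [mul_assoc, ← map_mul, mul_inv_cancel₀ ((map_ne_zero_iff _ (IsFractionRing.injective R K)).2 hr), map_one, mul_one]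
    rw [SetLike.mem_coe, h2]
    exact mul_mem (Algebra.self_mem_adjoin_singleton K θ) (Subalgebra.algebraMap_mem _ _)
  haveI : CharP E p := charP_of_injective_algebraMap (algebraMap K E).injective p
  have hgood := good_separable p (good_powerSeries k p n K) hθ
  have hmapB : (adjoinElt (algebraMap R K).range θ).map (algebraMap E L) ≤ (algebraMap B L).range := by
    rw [adjoinElt, RingHom.map_closure, Subring.closure_le]
    rintro _ ⟨z, hz | ⟨c, ⟨c, rfl⟩, rfl⟩, rfl⟩
    · subst hz
      show (θ₀ : L) * algebraMap K L (algebraMap R K r) ∈ _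
      rw [← IsScalarTower.algebraMap_apply]
      exact hrB
    · show algebraMap K L (algebraMap R K c) ∈ _
      rw [← IsScalarTower.algebraMap_apply, IsScalarTower.algebraMap_apply R B L]
      exact ⟨_, rfl⟩
  have hmapR : (algebraMap R L).range ≤ (adjoinElt (algebraMap R K).range θ).map (algebraMap E L) := by
    rintro _ ⟨c, rfl⟩
    refine ⟨_, map_mem_adjoinElt (D := (algebraMap R K).range) ⟨c, rfl⟩ θ, ?_⟩
    rw [← IsScalarTower.algebraMap_apply K E L, ← IsScalarTower.algebraMap_apply R K L]
  haveI : IsPurelyInseparable E L := separableClosure.isPurelyInseparable K L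
  obtain ⟨D, ⟨hN, hD, -, f, hf, hfU⟩, hDB, hRD⟩ :=
    exists_good_of_chain (R := R) (B := B) p _ E _ le_rfl hgood hmapB hmapR hinjL
  haveI := hN
  -- compare with `B`
  let e : B ≃+* (algebraMap B L).range := RingEquiv.ofBijective (algebraMap B L).rangeRestrict
    ⟨fun a b h => IsFractionRing.injective B L (congrArg Subtype.val h), (algebraMap B L).rangeRestrict_surjective⟩
  let ι : D →+* B := e.symm.toRingHom.comp (Subring.inclusion hDB)
  have hιv : ∀ d, algebraMap B L (ι d) = d := fun d => by
    show ((e (e.symm (Subring.inclusion hDB d)) : (algebraMap B L).range) : L) = d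
    rw [RingEquiv.apply_symm_apply]; rfl
  have hι : Function.Injective ι := fun a b hab => Subtype.ext (by rw [← hιv, ← hιv, hab])
  letI : Algebra D B := ι.toAlgebra
  letI : Algebra R D := ((algebraMap R L).codRestrict D fun c => hRD ⟨c, rfl⟩).toAlgebra
  haveI : IsScalarTower R D B := IsScalarTower.of_algebraMap_eq fun c => IsFractionRing.injective B L (by
    rw [RingHom.algebraMap_toAlgebra ι, hιv, ← IsScalarTower.algebraMap_apply]; rfl)
  haveI : Module.Finite D B := Module.Finite.of_restrictScalars_finite R D B
  have hDL : ∀ d : D, algebraMap D L d = d := fun d => (IsScalarTower.algebraMap_apply D B L d).trans (hιv d)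
  haveI : IsFractionRing D L := RegLocLib.isFractionRing_of_forall
    (fun a b hab => Subtype.ext (by rw [← hDL, ← hDL, hab])) fun z => by
    obtain ⟨a, ha, b, hb, hb0, hab⟩ := hD z
    exact ⟨⟨a, ha⟩, ⟨b, hb⟩, fun h => hb0 (congrArg Subtype.val h), by rw [hDL, hDL]; exact hab⟩
  haveI : Algebra.FormallySmooth D L := Algebra.FormallySmooth.of_isLocalization (nonZeroDivisors D)
  haveI : (⊥ : Ideal B).IsPrime := Ideal.isPrime_bot
  haveI := RegLocLib.isSmoothAt_bot_of_formallySmooth (A := D) (B := B) (L := L)
  exact RegLocLib.exists_open_of_smoothAt (A := D) (B := B) hι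
    ⟨_, (PrimeSpectrum.basicOpen f).2, RegLocLib.nonempty_basicOpen hf, fun Q hQ => hfU Q hQ⟩

/-- Finite domains over a regular domain of characteristic zero are generically regular. -/
theorem exists_open_finite_charZero (R B : Type u) [CommRing R] [IsDomain R] [IsNoetherianRing R] [IsRegularRing R]
    [CharZero R] [CommRing B] [IsDomain B] [Algebra R B] [Module.Finite R B]
    (hinj : Function.Injective (algebraMap R B)) :
    ∃ U : Set (PrimeSpectrum B), IsOpen U ∧ U.Nonempty ∧ U ⊆ EGA4.regLocus B := by
  haveI : FaithfulSMul R (FractionRing B) := (faithfulSMul_iff_algebraMap_injective _ _).2 (by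
    rw [IsScalarTower.algebraMap_eq R B (FractionRing B), RingHom.coe_comp]
    exact (IsFractionRing.injective B _).comp hinj)
  letI : Algebra (FractionRing R) (FractionRing B) := FractionRing.liftAlgebra R (FractionRing B)
  haveI := charZero_of_injective_algebraMap (R := R) (A := FractionRing R) (IsFractionRing.injective R (FractionRing R))
  haveI := FieldExtLib.formallySmooth_of_isGeometricallyReduced (k := FractionRing R)
    (K := FractionRing B) FieldExtLib.isGeometricallyReduced_of_perfectField
  haveI : Algebra.FormallySmooth R (FractionRing R) := Algebra.FormallySmooth.of_isLocalization (nonZeroDivisors R)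
  haveI : Algebra.FormallySmooth R (FractionRing B) := Algebra.FormallySmooth.comp R (FractionRing R) (FractionRing B)
  haveI : (⊥ : Ideal B).IsPrime := Ideal.isPrime_bot
  haveI := RegLocLib.isSmoothAt_bot_of_formallySmooth (A := R) (B := B) (L := FractionRing B)
  exact RegLocLib.exists_open_of_smoothAt hinj ⟨Set.univ, isOpen_univ, Set.univ_nonempty,
    (RegLocLib.regLocus_eq_univ_of_isRegularRing R).ge⟩

end Groth.Agent.J2CompleteLib
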