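import Groth.Agent.J2CompleteLib.Extend
import Groth.Agent.RegLocLib.Generic
import Groth.Agent.RegLocal.Basic
import Groth.Agent.FieldExtLib.Frobenius

/-!
# Generic regularity of finite domains over a separating regular domain
-/

set_option autoImplicit false
set_option backward.isDefEq.respectTransparency false
set_option maxHeartbeats 1000000
universe u

open Polynomial

namespace Groth.Agent.J2CompleteLib

/-- A noetherian subring with fraction field `K`, separating, and generically regular. -/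
def Good (p : ℕ) {K : Type u} [Field K] (D : Subring K) : Prop :=
  IsNoetherianRing D ∧ IsFrac D ∧ Sep p D ∧
    ∃ f : D, f ≠ 0 ∧ ∀ Q : PrimeSpectrum D, f ∉ Q.asIdeal → Q ∈ EGA4.regLocus D

/-- The Jacobian criterion for `X^p - a`. -/
theorem mem_regLocus_of_der {D B : Type u} [CommRing D] [IsNoetherianRing D] [CommRing B]
    (π : D[X] →+* B) (hπ : Function.Surjective π) (p : ℕ) [CharP D p] (hp : 0 < p) (a : D)
    (hker : RingHom.ker π = Ideal.span {X ^ p - C a})
    (δ : Derivation ℤ D D) (P : PrimeSpectrum B) (hδ : π (C (δ a)) ∉ P.asIdeal)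
    (hreg : PrimeSpectrum.comap (π.comp C) P ∈ EGA4.regLocus D) :
    P ∈ EGA4.regLocus B := by
  letI : Differential D := ⟨δ⟩
  let Q := P.asIdeal.comap π
  let L := Localization.AtPrime Q
  haveI : Algebra.FormallySmooth D[X] L := Algebra.FormallySmooth.of_isLocalization Q.primeCompl
  haveI : Algebra.FormallySmooth D D[X] :=
    Algebra.FormallySmooth.of_equiv (MvPolynomial.pUnitAlgEquiv.{u, u} D)
  haveI : Algebra.IsSmoothAt D Q := Algebra.FormallySmooth.comp D D[X] L
  haveI : IsRegularLocalRing L := RegLocLib.mem_regLocus_of_smoothAt (R := D) (⟨Q, inferInstance⟩ : PrimeSpectrum D[X]) hreg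
  let f : D[X] := X ^ p - C a
  have hfQ : f ∈ Q := by
    rw [Ideal.mem_comap, RingHom.mem_ker.1 (hker ▸ Ideal.mem_span_singleton_self _ : f ∈ RingHom.ker π)]
    exact zero_mem _
  have hDf : Differential.mapCoeffs f = - C (δ a) := by
    rw [map_sub, Derivation.leibniz_pow, Differential.mapCoeffs_X, smul_zero, smul_zero, zero_sub,
      Differential.mapCoeffs_C]
    rfl
  have hsq : ∀ z ∈ Q ^ 2, Differential.mapCoeffs z ∈ Q := by
    intro z hz
    rw [pow_two] at hz
    refine Submodule.mul_induction_on hz (fun u hu v hv => ?_) fun u v hu hv => by rw [map_add]; exact add_mem hu hv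
    rw [Derivation.leibniz, smul_eq_mul, smul_eq_mul]
    exact add_mem (Q.mul_mem_right _ hu) (Q.mul_mem_right _ hv)
  have hmax : Q.map (algebraMap D[X] L) = IsLocalRing.maximalIdeal L := Localization.AtPrime.map_eq_maximalIdeal
  have hf1 : algebraMap D[X] L f ∈ IsLocalRing.maximalIdeal L := hmax ▸ Ideal.mem_map_of_mem _ hfQ
  have hf2 : algebraMap D[X] L f ∉ IsLocalRing.maximalIdeal L ^ 2 := by
    rw [← hmax, ← Ideal.map_pow, IsLocalization.algebraMap_mem_map_algebraMap_iff Q.primeCompl]
    rintro ⟨s, hs, hsf⟩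
    have h1 := hsq _ hsf
    rw [Derivation.leibniz, smul_eq_mul, smul_eq_mul, hDf] at h1
    have h2 : s * C (δ a) ∈ Q := by
      have := sub_mem (Q.mul_mem_right (Differential.mapCoeffs s) hfQ) h1
      convert this using 1; ring
    exact ((Ideal.IsPrime.comap π : Q.IsPrime).mem_or_mem h2).elim hs hδ
  obtain ⟨d, hd⟩ := RegLocal.exists_nat_ringKrullDim (R := L)
  haveI := (RegLocal.quot_singleton L hd hf1 hf2).1
  let φ := Localization.localRingHom Q P.asIdeal π rfl
  have hφ : Function.Surjective φ := RingHom.surjective_localRingHom_of_surjective π hπ P.asIdeal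
  have hkφ : RingHom.ker φ = Ideal.span {algebraMap D[X] L f} := by
    refine le_antisymm (fun x hx => ?_) ((Ideal.span_singleton_le_iff_mem _).2 ?_)
    · obtain ⟨r, s, rfl⟩ := IsLocalization.exists_mk'_eq Q.primeCompl x
      rw [RingHom.mem_ker, Localization.localRingHom_mk', IsLocalization.mk'_eq_zero_iff] at hx
      obtain ⟨⟨t, ht⟩, htr⟩ := hx
      obtain ⟨t, rfl⟩ := hπ t
      have h1 : t * r ∈ RingHom.ker π := by rw [RingHom.mem_ker, map_mul]; exact htr
      have h2 : IsLocalization.mk' L r s = IsLocalization.mk' L (t * r) (⟨t, ht⟩ * s) := by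
        rw [IsLocalization.mk'_mul, IsLocalization.mk'_self, one_mul]
      rw [h2, IsLocalization.mk'_eq_mul_mk'_one]
      refine Ideal.mul_mem_right _ _ ?_
      rw [hker] at h1
      have h3 := Ideal.mem_map_of_mem (algebraMap D[X] L) h1
      rwa [Ideal.map_span, Set.image_singleton] at h3
    · rw [RingHom.mem_ker, Localization.localRingHom_to_map]
      rw [RingHom.mem_ker.1 (hker ▸ Ideal.mem_span_singleton_self _ : f ∈ RingHom.ker π), map_zero]
  exact IsRegularLocalRing.of_ringEquiv (R := L ⧸ Ideal.span {algebraMap D[X] L f})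
    ((Ideal.quotEquivOfEq hkφ.symm).trans (RingHom.quotientKerEquivOfSurjective hφ))

section Field

variable {K L : Type u} [Field K] [Field L] [Algebra K L]

theorem subset_adjoinElt (D : Subring K) (θ : L) : D.map (algebraMap K L) ≤ adjoinElt D θ := by
  rintro _ ⟨r, hr, rfl⟩
  exact map_mem_adjoinElt hr θ

/-- The evaluation map onto the generated subring. -/
noncomputable def evalElt (D : Subring K) (θ : L) : D[X] →+* adjoinElt D θ :=
  eval₂RingHom (((algebraMap K L).comp D.subtype).codRestrict (adjoinElt D θ) fun r => map_mem_adjoinElt r.2 θ)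
    ⟨θ, mem_adjoinElt D θ⟩

theorem evalElt_coe (D : Subring K) (θ : L) (q : D[X]) :
    (evalElt D θ q : L) = q.eval₂ ((algebraMap K L).comp D.subtype) θ := by
  induction q using Polynomial.induction_on' with
  | add a b ha hb => rw [map_add, eval₂_add, ← ha, ← hb]; rfl
  | monomial n r => simp [evalElt, eval₂_monomial]

theorem evalElt_surjective (D : Subring K) (θ : L) : Function.Surjective (evalElt D θ) := by
  rintro ⟨z, hz⟩
  suffices ∃ q, (evalElt D θ q : L) = z by
    obtain ⟨q, hq⟩ := this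
    exact ⟨q, Subtype.ext hq⟩
  simp only [evalElt_coe]
  induction hz using Subring.closure_induction with
  | mem w hw =>
    rcases hw with rfl | ⟨c, hc, rfl⟩
    · exact ⟨X, by simp⟩
    · exact ⟨C ⟨c, hc⟩, by simp⟩
  | zero => exact ⟨0, by simp⟩
  | one => exact ⟨1, by simp⟩
  | add x y _ _ hx hy => obtain ⟨a, rfl⟩ := hx; obtain ⟨b, rfl⟩ := hy; exact ⟨a + b, by simp⟩
  | neg x _ hx => obtain ⟨a, rfl⟩ := hx; exact ⟨-a, by simp⟩
  | mul x y _ _ hx hy => obtain ⟨a, rfl⟩ := hx; obtain ⟨b, rfl⟩ := hy; exact ⟨a * b, by simp⟩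

theorem isNoetherianRing_adjoinElt (D : Subring K) [IsNoetherianRing D] (θ : L) :
    IsNoetherianRing (adjoinElt D θ) :=
  isNoetherianRing_of_surjective D[X] _ _ (evalElt_surjective D θ)

variable (p : ℕ) [Fact p.Prime] [CharP K p]

/-- The separable step. -/
theorem good_separable {D : Subring K} (h : Good p D) [Algebra.IsSeparable K L] [FiniteDimensional K L]
    {θ : L} (hθ : Algebra.adjoin K {θ} = ⊤) : Good p (adjoinElt D θ) := by
  obtain ⟨hN, hD, hsep, f, hf, hfU⟩ := h
  haveI := hN
  haveI := isNoetherianRing_adjoinElt D θ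
  refine ⟨inferInstance, isFrac_adjoinElt hD hθ, sep_separable p hD hsep hθ, ?_⟩
  let S := adjoinElt D θ
  let ι : D →+* S := ((algebraMap K L).comp D.subtype).codRestrict S fun r => map_mem_adjoinElt r.2 θ
  have hι : Function.Injective ι := fun a b hab => Subtype.ext ((algebraMap K L).injective (congrArg Subtype.val hab))
  letI : Algebra D S := ι.toAlgebra
  haveI : Algebra.FiniteType D S := by
    refine ⟨⟨{⟨θ, mem_adjoinElt D θ⟩}, eq_top_iff.2 fun z _ => ?_⟩⟩
    obtain ⟨q, rfl⟩ := evalElt_surjective D θ z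
    rw [Finset.coe_singleton, Algebra.adjoin_singleton_eq_range_aeval]
    exact ⟨q, rfl⟩
  haveI : IsScalarTower D K L := IsScalarTower.of_algebraMap_eq fun _ => rfl
  haveI : IsScalarTower D S L := IsScalarTower.of_algebraMap_eq fun _ => rfl
  haveI : IsFractionRing D K := RegLocLib.isFractionRing_of_forall Subtype.val_injective fun x => by
    obtain ⟨a, ha, b, hb, hb0, hab⟩ := hD x
    exact ⟨⟨a, ha⟩, ⟨b, hb⟩, fun h => hb0 (congrArg Subtype.val h), hab⟩
  haveI : IsFractionRing S L := RegLocLib.isFractionRing_of_forall Subtype.val_injective fun x => by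
    obtain ⟨a, ha, b, hb, hb0, hab⟩ := isFrac_adjoinElt hD hθ x
    exact ⟨⟨a, ha⟩, ⟨b, hb⟩, fun h => hb0 (congrArg Subtype.val h), hab⟩
  haveI := Algebra.FormallyEtale.of_isSeparable K L
  haveI : Algebra.FormallySmooth D K := Algebra.FormallySmooth.of_isLocalization (nonZeroDivisors D)
  haveI : Algebra.FormallySmooth D L := Algebra.FormallySmooth.comp D K L
  haveI : (⊥ : Ideal S).IsPrime := Ideal.isPrime_bot
  haveI := RegLocLib.isSmoothAt_bot_of_formallySmooth (A := D) (B := S) (L := L)
  obtain ⟨U, hU, hne, hsub⟩ := RegLocLib.exists_open_of_smoothAt (A := D) (B := S) hι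
    ⟨_, (PrimeSpectrum.basicOpen f).2, RegLocLib.nonempty_basicOpen hf, fun Q hQ => hfU Q hQ⟩
  obtain ⟨g, hg, hgU⟩ := RegLocLib.exists_ne_zero_of_open hU hne
  exact ⟨g, hg, fun Q hQ => hsub (hgU Q hQ)⟩

/-- The inseparable step. -/
theorem good_insep {D : Subring K} (h : Good p D) (pb : PowerBasis K L) {a : K} (ha : a ∈ D)
    (hf : minpoly K pb.gen = X ^ p - C a) (hap : ∀ b : K, b ^ p ≠ a) : Good p (adjoinElt D pb.gen) := by
  obtain ⟨hN, hD, hsep, f, hf0, hfU⟩ := h
  haveI := hN
  haveI := isNoetherianRing_adjoinElt D pb.gen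
  refine ⟨inferInstance, isFrac_adjoinElt hD pb.adjoin_gen_eq_top, sep_insep p hD hsep pb hf hap, ?_⟩
  obtain ⟨δ, ⟨g, hg, hg0, hgδ⟩, hδa⟩ : ∃ δ : Derivation ℤ K K, Bdd D δ ∧ δ a ≠ 0 := by
    by_contra! h
    obtain ⟨b, hb⟩ := hsep a h
    exact hap b hb
  let δD : Derivation ℤ D D := Derivation.mk'
    (AddMonoidHom.mk' (fun r : D => (⟨g * δ r, hgδ r r.2⟩ : D)) fun r s =>
      Subtype.ext (by simp [mul_add])).toIntLinearMap fun r s => Subtype.ext (by
        show g * δ ((r : K) * s) = (r : K) * (g * δ s) + (s : K) * (g * δ r)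
        rw [Derivation.leibniz, smul_eq_mul, smul_eq_mul]; ring)
  let π := evalElt D pb.gen
  haveI : CharP D p := (RingHom.charP_iff D.subtype Subtype.val_injective p).mpr inferInstance
  have hp : p.Prime := Fact.out
  have hker : RingHom.ker π = Ideal.span {X ^ p - C (⟨a, ha⟩ : D)} := by
    have hm : (X ^ p - C (⟨a, ha⟩ : D)).map D.subtype = minpoly K pb.gen := by
      rw [hf, Polynomial.map_sub, Polynomial.map_pow, Polynomial.map_X, Polynomial.map_C]; rfl
    have hmon : (X ^ p - C (⟨a, ha⟩ : D)).Monic := monic_X_pow_sub_C _ hp.ne_zero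
    have hev : ∀ q : D[X], (π q : L) = aeval pb.gen (q.map D.subtype) := fun q => by
      rw [evalElt_coe, aeval_def, eval₂_map]
    refine le_antisymm (fun q hq => ?_) ((Ideal.span_singleton_le_iff_mem _).2 ?_)
    · have h1 : aeval pb.gen (q.map D.subtype) = 0 := by rw [← hev, RingHom.mem_ker.1 hq]; rfl
      have h2 := minpoly.dvd K pb.gen h1
      rw [← hm, Polynomial.map_dvd_map D.subtype Subtype.val_injective hmon] at h2
      exact Ideal.mem_span_singleton.2 h2
    · refine RingHom.mem_ker.2 (Subtype.ext ?_)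
      rw [hev, hm, minpoly.aeval]; rfl
  have hne : π (C (δD ⟨a, ha⟩) * C f) ≠ 0 := fun h0 => by
    rw [← map_mul C] at h0
    have h1 := congrArg (fun z : adjoinElt D pb.gen => (z : L)) h0
    simp only [π, evalElt_coe, eval₂_C, RingHom.coe_comp, Function.comp_apply, ZeroMemClass.coe_zero,
      map_eq_zero] at h1
    exact mul_ne_zero (fun h => mul_ne_zero hg0 hδa (congrArg Subtype.val h)) hf0 (Subtype.ext h1)
  refine ⟨_, hne, fun P hP => ?_⟩
  rw [map_mul] at hP
  refine mem_regLocus_of_der π (evalElt_surjective D pb.gen) p hp.pos ⟨a, ha⟩ hker δD P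
    (fun h => hP (P.asIdeal.mul_mem_right _ h)) (hfU _ fun h => hP (P.asIdeal.mul_mem_left _ h))

end Field

end Groth.Agent.J2CompleteLib
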