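import Mathlib

/-!
# Derivations separating `p`-th powers

A subring `D` of a field `K` *separates* when an element of `K` killed by all derivations of `K`
which are bounded on `D` is a `p`-th power.  The property passes to finite extensions.
-/

set_option autoImplicit false
set_option backward.isDefEq.respectTransparency false
universe u

namespace Groth.Agent.J2CompleteLib

variable {K : Type u} [Field K]

/-- A map is bounded on a subring if a nonzero multiple of it preserves the subring. -/
def Bdd (D : Subring K) (T : K → K) : Prop := ∃ g ∈ D, g ≠ 0 ∧ ∀ r ∈ D, g * T r ∈ D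

/-- The subring has `K` as fraction field. -/
def IsFrac (D : Subring K) : Prop := ∀ x : K, ∃ a ∈ D, ∃ b ∈ D, b ≠ 0 ∧ x * b = a

/-- An element killed by all bounded derivations is a `p`-th power. -/
def Sep (p : ℕ) (D : Subring K) : Prop :=
  ∀ x : K, (∀ δ : Derivation ℤ K K, Bdd D δ → δ x = 0) → ∃ y, y ^ p = x

variable {D : Subring K}

theorem Bdd.sub {S T : K → K} (hS : Bdd D S) (hT : Bdd D T) : Bdd D fun x => S x - T x := by
  obtain ⟨g, hg, hg0, hgS⟩ := hS
  obtain ⟨h, hh, hh0, hhT⟩ := hT
  refine ⟨g * h, mul_mem hg hh, mul_ne_zero hg0 hh0, fun r hr => ?_⟩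
  rw [show g * h * (S r - T r) = h * (g * S r) - g * (h * T r) by ring]
  exact sub_mem (mul_mem hh (hgS r hr)) (mul_mem hg (hhT r hr))

theorem Bdd.smul (hD : IsFrac D) {T : K → K} (hT : Bdd D T) (c : K) : Bdd D fun x => c * T x := by
  obtain ⟨g, hg, hg0, hgT⟩ := hT
  obtain ⟨a, ha, b, hb, hb0, hab⟩ := hD c
  refine ⟨g * b, mul_mem hg hb, mul_ne_zero hg0 hb0, fun r hr => ?_⟩
  rw [show g * b * (c * T r) = (c * b) * (g * T r) by ring, hab]
  exact mul_mem ha (hgT r hr)

theorem Bdd.comp {δ : Derivation ℤ K K} (hδ : Bdd D δ) {T : K → K} (hT : Bdd D T) :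
    Bdd D fun x => δ (T x) := by
  obtain ⟨h, hh, hh0, hhδ⟩ := hδ
  obtain ⟨g, hg, hg0, hgT⟩ := hT
  refine ⟨h * (g * g), mul_mem hh (mul_mem hg hg), mul_ne_zero hh0 (mul_ne_zero hg0 hg0), fun r hr => ?_⟩
  rw [show h * (g * g) * δ (T r) = g * (h * δ (g * T r)) - (h * δ g) * (g * T r) by
    rw [Derivation.leibniz]; simp only [smul_eq_mul]; ring]
  exact sub_mem (mul_mem hg (hhδ _ (hgT r hr))) (mul_mem (hhδ g hg) (hgT r hr))

theorem Bdd.congr {S T : K → K} (hS : Bdd D S) (h : ∀ x, S x = T x) : Bdd D T := funext h ▸ hS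

theorem Bdd.id' : Bdd D fun x => x :=
  ⟨1, one_mem D, one_ne_zero, fun r hr => by rwa [one_mul]⟩

theorem iterate_mul (δ : Derivation ℤ K K) (n : ℕ) (x y : K) :
    δ^[n] (x * y) = ∑ i ∈ Finset.range (n + 1), (n.choose i : K) * (δ^[i] x * δ^[n - i] y) := by
  induction n with
  | zero => simp
  | succ n ih =>
    rw [Finset.sum_choose_succ_mul (fun i j => δ^[i] x * δ^[j] y), Function.iterate_succ_apply', ih, map_sum,
      ← Finset.sum_add_distrib]
    refine Finset.sum_congr rfl fun i hi => ?_
    have hi' : n + 1 - i = n - i + 1 := by have := Finset.mem_range.1 hi; omega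
    rw [hi', Function.iterate_succ_apply' δ i, Function.iterate_succ_apply' δ (n - i), Derivation.leibniz,
      Derivation.map_natCast, smul_zero, add_zero, smul_eq_mul, Derivation.leibniz, smul_eq_mul, smul_eq_mul]
    ring

variable (p : ℕ) [Fact p.Prime] [CharP K p]

/-- In characteristic `p` the `p`-th iterate of a derivation is a derivation. -/
theorem exists_powDerivation (δ : Derivation ℤ K K) :
    ∃ E : Derivation ℤ K K, ∀ x, E x = δ^[p] x := by
  have hp : p.Prime := Fact.out
  have hmul : ∀ x y, δ^[p] (x * y) = x * δ^[p] y + y * δ^[p] x := by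
    intro x y
    rw [iterate_mul, Finset.sum_range_succ, Finset.sum_eq_single 0]
    · simp only [Nat.choose_zero_right, Nat.cast_one, Function.iterate_zero_apply, Nat.sub_zero, one_mul,
        Nat.choose_self, Nat.sub_self]
      ring
    · intro i hi h0
      rw [(CharP.cast_eq_zero_iff K p _).2 (hp.dvd_choose_self h0 (Finset.mem_range.1 hi)), zero_mul]
    · intro h
      exact absurd (Finset.mem_range.2 hp.pos) h
  have hadd : ∀ n x y, δ^[n] (x + y) = δ^[n] x + δ^[n] y := by
    intro n
    induction n with
    | zero => simp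
    | succ n ih => intro x y; simp only [Function.iterate_succ_apply', ih, map_add]
  exact ⟨Derivation.mk' (AddMonoidHom.mk' (fun x => δ^[p] x) (hadd p)).toIntLinearMap fun x y => hmul x y,
    fun x => rfl⟩

/-- Separation relative to one element: what is killed by the bounded derivations killing `a` is
in `K^p(a)`. -/
theorem exists_coeff_of_killed (hD : IsFrac D) (hsep : Sep p D) {a : K} {δ₁ : Derivation ℤ K K}
    (hδ₁ : Bdd D δ₁) (ha : δ₁ a = 1) {x : K}
    (hx : ∀ δ : Derivation ℤ K K, Bdd D δ → δ a = 0 → δ x = 0) :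
    ∃ c : ℕ → K, x = ∑ i ∈ Finset.range p, c i ^ p * a ^ i := by
  have hp : p.Prime := Fact.out
  let S : K → Prop := fun z => ∀ δ : Derivation ℤ K K, Bdd D δ → δ z = δ a * δ₁ z
  have hS : ∀ z, (∀ δ : Derivation ℤ K K, Bdd D δ → δ a = 0 → δ z = 0) → S z := fun z hz δ hδ => by
    have h := hz (δ - δ a • δ₁) ((hδ.sub (hδ₁.smul hD (δ a))).congr fun z => rfl)
      (by simp [ha])
    simpa [sub_eq_zero] using h
  have hSδ : ∀ z, S z → S (δ₁ z) := by
    intro z hz δ hδ
    have hbr : Bdd D (⁅δ, δ₁⁆ : Derivation ℤ K K) := by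
      exact ((hδ.comp hδ₁).sub (hδ₁.comp hδ)).congr fun z => (Derivation.commutator_apply z).symm
    have h1 := hz _ hbr
    rw [Derivation.commutator_apply, Derivation.commutator_apply, ha, Derivation.map_one_eq_zero,
      hz δ hδ, Derivation.leibniz, smul_eq_mul, smul_eq_mul] at h1
    linear_combination h1
  have hSit : ∀ n z, S z → S (δ₁^[n] z) := by
    intro n
    induction n with
    | zero => intro z hz; exact hz
    | succ n ih => intro z hz; rw [Function.iterate_succ_apply']; exact hSδ _ (ih z hz)
  obtain ⟨E, hE⟩ := exists_powDerivation p δ₁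
  have hbit : ∀ n, Bdd D fun z => δ₁^[n] z := by
    intro n
    induction n with
    | zero => exact Bdd.id'
    | succ n ih => simpa only [Function.iterate_succ_apply'] using hδ₁.comp ih
  have hEb : Bdd D E := by
    have := hbit p
    simpa only [← hE] using this
  have hEa : E a = 0 := by
    rw [hE, show p = (p - 2) + 1 + 1 by have := hp.two_le; omega, Function.iterate_succ_apply,
      Function.iterate_succ_apply, ha, Derivation.map_one_eq_zero]
    exact Function.iterate_fixed (map_zero δ₁) _
  have key : ∀ n, n ≤ p → ∀ z, S z → δ₁^[n] z = 0 →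
      ∃ c : ℕ → K, z = ∑ i ∈ Finset.range n, c i ^ p * a ^ i := by
    intro n
    induction n with
    | zero => intro _ z _ h; exact ⟨0, by simpa using h⟩
    | succ n ih =>
      intro hn z hz h
      obtain ⟨w, hw⟩ := hsep (δ₁^[n] z) fun δ hδ => by
        rw [hSit n z hz δ hδ, ← Function.iterate_succ_apply' δ₁ n z, h, mul_zero]
      have hfac : (n.factorial : K) ≠ 0 := fun h0 => by
        rw [CharP.cast_eq_zero_iff K p] at h0
        exact absurd ((Nat.Prime.dvd_factorial hp).1 h0) (by omega)
      obtain ⟨v, hv⟩ : ∃ v : K, v ^ p = (n.factorial : K)⁻¹ := ⟨(n.factorial : K)⁻¹, by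
        rw [inv_pow]
        congr 1
        exact map_natCast (frobenius K p) _⟩
      have hpow : ∀ (δ : Derivation ℤ K K) (b : K), δ (b ^ p) = 0 := fun δ b => by
        rw [Derivation.leibniz_pow, ← Nat.cast_smul_eq_nsmul K, CharP.cast_eq_zero, zero_smul]
      have hlin : ∀ (c b : K) (m : ℕ), δ₁^[m] (c ^ p * b) = c ^ p * δ₁^[m] b := by
        intro c b m
        induction m with
        | zero => rfl
        | succ m ihm =>
          rw [Function.iterate_succ_apply', ihm, Function.iterate_succ_apply', Derivation.leibniz, hpow,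
            smul_zero, add_zero, smul_eq_mul]
      have hsub : ∀ m u t, δ₁^[m] (u - t) = δ₁^[m] u - δ₁^[m] t := by
        intro m
        induction m with
        | zero => simp
        | succ m ihm => intro u t; simp only [Function.iterate_succ_apply', ihm, map_sub]
      have hfa : ∀ m, δ₁^[m] (a ^ m) = (m.factorial : K) ∧ δ₁^[m + 1] (a ^ m) = 0 := by
        intro m
        induction m with
        | zero => simp
        | succ m ihm =>
          have h1 : δ₁ (a ^ (m + 1)) = ((m + 1 : ℕ) : K) * a ^ m := by
            rw [Derivation.leibniz_pow, ha, nsmul_eq_mul, smul_eq_mul, mul_one, Nat.add_sub_cancel]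
          have hnat : ∀ (k : ℕ) (b : K) (j : ℕ), δ₁^[j] ((k : K) * b) = (k : K) * δ₁^[j] b := by
            intro k b j
            induction j with
            | zero => rfl
            | succ j ihj =>
              rw [Function.iterate_succ_apply', ihj, Function.iterate_succ_apply', Derivation.leibniz,
                Derivation.map_natCast, smul_zero, add_zero, smul_eq_mul]
          rw [Function.iterate_succ_apply, Function.iterate_succ_apply, h1, hnat, hnat, ihm.1, ihm.2,
            mul_zero, Nat.factorial_succ, Nat.cast_mul]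
          exact ⟨rfl, rfl⟩
      obtain ⟨c, hc⟩ := ih (by omega) (z - (w * v) ^ p * a ^ n) (fun δ hδ => by
        simp only [map_sub, Derivation.leibniz, hpow, smul_zero, add_zero, smul_eq_mul, Derivation.leibniz_pow,
          ha, hz δ hδ, nsmul_eq_mul]
        ring) (by
        rw [hsub, hlin, (hfa n).1, mul_pow, hw, hv, mul_assoc, inv_mul_cancel₀ hfac, mul_one, sub_self])
      refine ⟨fun i => if i < n then c i else w * v, ?_⟩
      rw [Finset.sum_range_succ]
      simp only [lt_irrefl, if_false]
      rw [eq_add_of_sub_eq hc]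
      congr 1
      exact Finset.sum_congr rfl fun i hi => by rw [if_pos (Finset.mem_range.1 hi)]
  refine key p le_rfl x (hS x hx) ?_
  rw [← hE]
  exact hx E hEb hEa

end Groth.Agent.J2CompleteLib
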